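import Groth.Agent.Lib.Chow.Core
import Groth.Prelude.Def_Magnet3
import Mathlib.AlgebraicGeometry.Morphisms.SchemeTheoreticallyDominant
import Mathlib.AlgebraicGeometry.Pullbacks
import Mathlib.RingTheory.TensorProduct.Maps
import Mathlib.Algebra.MonoidAlgebra.Basic

/-! # Diagonalizable monoid schemes: injective maps of monoids are epimorphic into separated targets -/

set_option autoImplicit false
set_option backward.isDefEq.respectTransparency false

universe u

open CategoryTheory CategoryTheory.Limits AlgebraicGeometry MonoidalCategory CartesianMonoidalCategory Opposite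
open scoped MonObj TensorProduct

noncomputable section

namespace GrothLib.MagnetSep

attribute [local instance 2000] Algebra.toModule

/-- The spectrum of an injective ring map is scheme-theoretically dominant. -/
theorem isSTD_specMap {A B : CommRingCat.{u}} (g : A ⟶ B) (hg : Function.Injective g) :
    IsSchemeTheoreticallyDominant (Spec.map g) := by
  refine ⟨Scheme.IdealSheafData.ext_of_isAffine ?_⟩
  rw [Scheme.Hom.ker_apply, Scheme.IdealSheafData.ideal_bot]
  change RingHom.ker (Spec.map g).appTop.hom = ⊥
  rw [← RingHom.injective_iff_ker_eq_bot]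
  intro x y h
  have he := congrArg (fun φ => φ.hom) (Scheme.ΓSpecIso_naturality g)
  have hx := congrArg (fun φ : _ →+* B => φ x) he
  have hy := congrArg (fun φ : _ →+* B => φ y) he
  simp only [CommRingCat.hom_comp, RingHom.comp_apply] at hx hy
  rw [h] at hx
  exact ((ConcreteCategory.isIso_iff_bijective (Scheme.ΓSpecIso A).hom).1 inferInstance).1
    (hg (hx.symm.trans hy))

open Magnet

variable {M N : Type} [AddCommMonoid M] [AddCommMonoid N]

/-- The monoid algebra over the integers. -/
abbrev MAlg (M : Type) [AddCommMonoid M] : Type u := MonoidAlgebra (ULift.{u} ℤ) (Multiplicative M)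

/-- The map of monoid algebras. -/
abbrev mMap (f : N →+ M) : MAlg.{u} N →ₐ[ULift.{u} ℤ] MAlg.{u} M :=
  (MonoidAlgebra.mapDomainBialgHom (ULift.{u} ℤ) (AddMonoidHom.toMultiplicative f)).toAlgHom

theorem exists_leftInverse (f : N →+ M) (hf : Function.Injective f) :
    ∃ l : MAlg.{u} M →ₗ[ULift.{u} ℤ] MAlg.{u} N, ∀ x, l (mMap f x) = x := by
  classical
  let g : Multiplicative M → Option (Multiplicative N) := fun m =>
    if h : ∃ n, Multiplicative.ofAdd (f n) = m then some (Multiplicative.ofAdd h.choose) else none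
  let tgt : Multiplicative M → MAlg.{u} N := fun m =>
    (g m).elim 0 (fun n => MonoidAlgebra.single n 1)
  refine ⟨(MonoidAlgebra.basis (Multiplicative M) (ULift.{u} ℤ)).constr (ULift.{u} ℤ) tgt, fun x => ?_⟩
  induction x using MonoidAlgebra.induction_linear with
  | zero => simp
  | add a b ha hb => rw [map_add, map_add, ha, hb]
  | single n c =>
      have h1 : mMap.{u} f (MonoidAlgebra.single n c) =
          c • (MonoidAlgebra.basis (Multiplicative M) (ULift.{u} ℤ)) (AddMonoidHom.toMultiplicative f n) := by
        simp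
      rw [h1, map_smul, Module.Basis.constr_basis]
      have h : ∃ k, Multiplicative.ofAdd (f k) = AddMonoidHom.toMultiplicative f n := ⟨n.toAdd, rfl⟩
      have hk : h.choose = n.toAdd := hf (Multiplicative.ofAdd.injective h.choose_spec)
      simp only [tgt, g, dif_pos h, Option.elim_some, hk]
      simp

variable {S : Scheme.{u}}

lemma isPullback_congr {C : Type*} [Category* C] {P A B Z : C} {a : P ⟶ A} {b : P ⟶ B} {c c' : A ⟶ Z} {d d' : B ⟶ Z}
    (h : IsPullback a b c d) (ec : c = c') (ed : d = d') : IsPullback a b c' d' := by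
  subst ec ed
  exact h

/-- `A(M)_S ×_S Spec R` is the spectrum of the base changed monoid algebra. -/
theorem exists_spec_square (M : Type) [AddCommMonoid M] (R : CommRingCat.{u}) [Algebra (ULift.{u} ℤ) R]
    (s : Spec R ⟶ S) :
    ∃ e : Spec (CommRingCat.of (R ⊗[ULift.{u} ℤ] MAlg.{u} M)) ≅ (AMonS S M ⊗ Over.mk s).left,
      e.hom ≫ (snd (AMonS S M) (Over.mk s)).left =
        Spec.map (CommRingCat.ofHom Algebra.TensorProduct.includeLeftRingHom) ∧
      e.hom ≫ (fst (AMonS S M) (Over.mk s)).left ≫ pullback.fst _ _ =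
        Spec.map (CommRingCat.ofHom Algebra.TensorProduct.includeRight.toRingHom) := by
  have h₁ : IsPullback (pullback.fst (AMon (ULift.{u} ℤ) M).hom (specULiftZIsTerminal.from S))
      (AMonS S M).hom (AMon (ULift.{u} ℤ) M).hom (specULiftZIsTerminal.from S) := IsPullback.of_hasPullback _ _
  have h₂ : IsPullback (fst (AMonS S M) (Over.mk s)).left (snd (AMonS S M) (Over.mk s)).left (AMonS S M).hom s :=
    IsPullback.of_hasPullback _ _
  have h := h₂.paste_horiz h₁
  have hs : s ≫ specULiftZIsTerminal.from S = Spec.map (CommRingCat.ofHom (algebraMap (ULift.{u} ℤ) R)) :=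
    specULiftZIsTerminal.hom_ext _ _
  have hM : (AMon (ULift.{u} ℤ) M).hom = Spec.map (CommRingCat.ofHom (algebraMap (ULift.{u} ℤ) (MAlg.{u} M))) :=
    specULiftZIsTerminal.hom_ext _ _
  replace h := isPullback_congr h hM hs
  let p := pullbackSpecIso (ULift.{u} ℤ) R (MAlg.{u} M)
  refine ⟨p.symm ≪≫ (IsPullback.of_hasPullback _ _).isoIsPullback _ _ h.flip, ?_, ?_⟩
  · rw [Iso.trans_hom, Category.assoc]
    erw [IsPullback.isoIsPullback_hom_fst]
    exact pullbackSpecIso_inv_fst _ _ _
  · rw [Iso.trans_hom, Category.assoc]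
    erw [IsPullback.isoIsPullback_hom_snd]
    exact pullbackSpecIso_inv_snd _ _ _

theorem isSTD_map_whiskerRight_spec (f : N →+ M) (hf : Function.Injective f) (R : CommRingCat.{u}) (s : Spec R ⟶ S) :
    IsSchemeTheoreticallyDominant (AMonS.map S f ▷ Over.mk s).left := by
  let : Algebra (ULift.{u} ℤ) R := ULift.algebra' ℤ R
  obtain ⟨eM, hM₁, hM₂⟩ := exists_spec_square (S := S) M R s
  obtain ⟨eN, hN₁, hN₂⟩ := exists_spec_square (S := S) N R s
  have : IsScalarTower (ULift.{u} ℤ) (ULift.{u} ℤ) R := ⟨fun a b c => mul_smul a.down b.down c⟩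
  let g : R ⊗[ULift.{u} ℤ] MAlg.{u} N →ₐ[ULift.{u} ℤ] R ⊗[ULift.{u} ℤ] MAlg.{u} M :=
    Algebra.TensorProduct.map (AlgHom.id _ _) (mMap f)
  have hg : Function.Injective g := by
    obtain ⟨l, hl⟩ := exists_leftInverse.{u} f hf
    have : ∀ x, (LinearMap.lTensor R l) (g x) = x := by
      intro x
      induction x using TensorProduct.induction_on with
      | zero => simp
      | add a b ha hb => rw [map_add, map_add, ha, hb]
      | tmul r y =>
          change r ⊗ₜ[ULift.{u} ℤ] l (mMap f y) = _
          rw [hl]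
    exact Function.LeftInverse.injective this
  have key : eM.hom ≫ (AMonS.map S f ▷ Over.mk s).left =
      Spec.map (CommRingCat.ofHom g.toRingHom) ≫ eN.hom := by
    refine pullback.hom_ext ?_ ?_
    · refine pullback.hom_ext ?_ ?_
      · change (eM.hom ≫ (AMonS.map S f ▷ Over.mk s).left) ≫ (fst (AMonS S N) (Over.mk s)).left ≫ pullback.fst _ _ =
          (Spec.map _ ≫ eN.hom) ≫ (fst (AMonS S N) (Over.mk s)).left ≫ pullback.fst _ _
        rw [Category.assoc, Category.assoc, hN₂]
        have hw : (AMonS.map S f ▷ Over.mk s).left ≫ (fst (AMonS S N) (Over.mk s)).left =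
            (fst (AMonS S M) (Over.mk s)).left ≫ (AMonS.map S f).left := by
          rw [← Over.comp_left, ← Over.comp_left, whiskerRight_fst]
        rw [reassoc_of% hw]
        erw [show (AMonS.map S f).left ≫ pullback.fst _ _ = pullback.fst _ _ ≫ (AMon.map (ULift.{u} ℤ) f).left from
          pullback.lift_fst _ _ _]
        rw [AMon.map_left, reassoc_of% hM₂, ← Spec.map_comp, ← Spec.map_comp]
        congr 1
      · have e1 : ∀ (N' : Type) [AddCommMonoid N'], (fst (AMonS S N') (Over.mk s)).left ≫ pullback.snd _ _ =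
            (snd (AMonS S N') (Over.mk s)).left ≫ s := fun N' _ => pullback.condition
        change (eM.hom ≫ (AMonS.map S f ▷ Over.mk s).left) ≫ (fst (AMonS S N) (Over.mk s)).left ≫ pullback.snd _ _ =
          (Spec.map _ ≫ eN.hom) ≫ (fst (AMonS S N) (Over.mk s)).left ≫ pullback.snd _ _
        erw [e1 N]
        have hw : (AMonS.map S f ▷ Over.mk s).left ≫ (snd (AMonS S N) (Over.mk s)).left =
            (snd (AMonS S M) (Over.mk s)).left := by
          rw [← Over.comp_left, whiskerRight_snd]
        rw [Category.assoc, Category.assoc, reassoc_of% hw, reassoc_of% hM₁, reassoc_of% hN₁, ← Spec.map_comp_assoc]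
        congr 2
        apply CommRingCat.hom_ext; apply RingHom.ext; intro r
        change Algebra.TensorProduct.includeLeftRingHom r = g (Algebra.TensorProduct.includeLeftRingHom r)
        simp [g, Algebra.TensorProduct.includeLeftRingHom]
    · change (eM.hom ≫ (AMonS.map S f ▷ Over.mk s).left) ≫ (snd (AMonS S N) (Over.mk s)).left =
          (Spec.map _ ≫ eN.hom) ≫ (snd (AMonS S N) (Over.mk s)).left
      rw [Category.assoc, Category.assoc, hN₁]
      have hw : (AMonS.map S f ▷ Over.mk s).left ≫ (snd (AMonS S N) (Over.mk s)).left =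
          (snd (AMonS S M) (Over.mk s)).left := by
        rw [← Over.comp_left, whiskerRight_snd]
      rw [hw, hM₁, ← Spec.map_comp]
      congr 1
      apply CommRingCat.hom_ext; apply RingHom.ext; intro r
      change Algebra.TensorProduct.includeLeftRingHom r = g (Algebra.TensorProduct.includeLeftRingHom r)
      simp [g, Algebra.TensorProduct.includeLeftRingHom]
  have hg' : Function.Injective (CommRingCat.ofHom g.toRingHom : CommRingCat.of (R ⊗[ULift.{u} ℤ] MAlg.{u} N) ⟶
      CommRingCat.of (R ⊗[ULift.{u} ℤ] MAlg.{u} M)) := hg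
  have := isSTD_specMap _ hg'
  rw [← Iso.inv_hom_id_assoc eM (AMonS.map S f ▷ Over.mk s).left, key]
  infer_instance

/-- Restriction along an injective map of monoids is injective on morphisms to separated targets. -/
theorem ext_map (f : N →+ M) (hf : Function.Injective f) {X : Over S} [IsSeparated X.hom] {T : Over S}
    (φ ψ : AMonS S N ⊗ T ⟶ X) (h : (AMonS.map S f ▷ T) ≫ φ = (AMonS.map S f ▷ T) ≫ ψ) : φ = ψ := by
  apply Over.OverMorphism.ext
  refine Scheme.Cover.hom_ext (Precoverage.ZeroHypercover.pullback₁ (snd (AMonS S N) T).left T.left.affineCover)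
    _ _ fun i => ?_
  let s : (T.left.affineCover.X i) ⟶ S := T.left.affineCover.f i ≫ T.hom
  let u : Over.mk s ⟶ T := Over.homMk (T.left.affineCover.f i) rfl
  let c := pullback.fst (snd (AMonS S N) T).left (T.left.affineCover.f i)
  let d := pullback.snd (snd (AMonS S N) T).left (T.left.affineCover.f i)
  let k : pullback (snd (AMonS S N) T).left (T.left.affineCover.f i) ⟶ (AMonS S N ⊗ Over.mk s).left :=
    pullback.lift (c ≫ (fst (AMonS S N) T).left) d (by
      have e1 : (fst (AMonS S N) T).left ≫ (AMonS S N).hom = (snd (AMonS S N) T).left ≫ T.hom := pullback.condition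
      rw [Category.assoc, e1, pullback.condition_assoc]
      rfl)
  have hk : k ≫ (AMonS S N ◁ u).left = c := by
    refine pullback.hom_ext ?_ ?_
    · change (k ≫ _) ≫ (fst (AMonS S N) T).left = c ≫ (fst (AMonS S N) T).left
      rw [Category.assoc, ← Over.comp_left, whiskerLeft_fst]
      exact pullback.lift_fst _ _ _
    · change (k ≫ _) ≫ (snd (AMonS S N) T).left = c ≫ (snd (AMonS S N) T).left
      rw [Category.assoc, ← Over.comp_left, whiskerLeft_snd, Over.comp_left, pullback.condition]
      exact congrArg (· ≫ T.left.affineCover.f i) (pullback.lift_snd _ _ _)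
  change c ≫ φ.left = c ≫ ψ.left
  rw [← hk, Category.assoc, Category.assoc]
  congr 1
  rw [← Over.comp_left, ← Over.comp_left]
  have h' : (AMonS.map S f ▷ Over.mk s) ≫ (AMonS S N ◁ u) ≫ φ = (AMonS.map S f ▷ Over.mk s) ≫ (AMonS S N ◁ u) ≫ ψ := by
    rw [← whisker_exchange_assoc, ← whisker_exchange_assoc, h]
  have := isSTD_map_whiskerRight_spec (S := S) f hf _ s
  refine Chow.ext_of_stdDominant (AMonS.map S f ▷ Over.mk s).left X.hom ?_ (congrArg CommaMorphism.left h')
  rw [Over.w, Over.w]

end GrothLib.MagnetSep
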