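import Groth.Agent.Lib.MagnetSep25.Basic
import Groth.Agent.Lib.MagnetClosed25.Basic

/-! # Scheme-theoretic dominance of maps induced by injective maps of monoids -/

set_option autoImplicit false
set_option backward.isDefEq.respectTransparency false

universe u

open CategoryTheory CategoryTheory.Limits AlgebraicGeometry MonoidalCategory CartesianMonoidalCategory

noncomputable section

namespace GrothLib.MagnetSep

/-- Scheme-theoretic dominance can be checked after pulling back to an open cover of the target. -/
theorem isSTD_of_openCover {X Y : Scheme.{u}} (f : X ⟶ Y) [QuasiCompact f] (𝒰 : Y.OpenCover)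
    (h : ∀ i, ∃ (W : Scheme.{u}) (w : W ⟶ 𝒰.X i) (r : W ⟶ X),
      IsSchemeTheoreticallyDominant w ∧ r ≫ f = w ≫ 𝒰.f i) :
    IsSchemeTheoreticallyDominant f := by
  have hiso : IsIso f.imageι := by
    refine IsZariskiLocalAtTarget.of_openCover (P := MorphismProperty.isomorphisms Scheme.{u}) 𝒰 (fun i => ?_)
    obtain ⟨W, w, r, hw, hr⟩ := h i
    have : IsClosedImmersion (pullback.snd f.imageι (𝒰.f i)) := MorphismProperty.pullback_snd _ _ inferInstance
    exact Chow.isIso_of_factors w (pullback.snd f.imageι (𝒰.f i))
      (pullback.lift (r ≫ f.toImage) w (by rw [Category.assoc, f.toImage_imageι, hr])) (pullback.lift_snd _ _ _)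
  refine ⟨?_⟩
  have := IsClosedImmersion.isIso_iff_ker_eq_bot.1 hiso
  rwa [Scheme.Hom.imageι, Scheme.IdealSheafData.ker_subschemeι] at this

open Magnet

variable {S : Scheme.{u}} {M N : Type} [AddCommMonoid M] [AddCommMonoid N]

instance isAffineHom_amonS (P : Type) [AddCommMonoid P] : IsAffineHom (AMonS S P).hom := by
  change IsAffineHom (pullback.snd (AMon (ULift.{u} ℤ) P).hom (specULiftZIsTerminal.from S))
  have : IsAffine (AMon (ULift.{u} ℤ) P).left :=
    inferInstanceAs (IsAffine (Spec (CommRingCat.of (MAlg.{u} P))))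
  have : IsAffineHom (AMon (ULift.{u} ℤ) P).hom := isAffineHom_of_isAffine _
  have : IsAffineHom (pullback.snd (AMon (ULift.{u} ℤ) P).hom (specULiftZIsTerminal.from S)) :=
    MorphismProperty.pullback_snd _ _ inferInstance
  exact this

instance isAffineHom_amonS_map (f : N →+ M) : IsAffineHom (AMonS.map S f).left := by
  have h : IsAffineHom ((AMonS.map S f).left ≫ (AMonS S N).hom) := by
    rw [Over.w]
    infer_instance
  exact IsAffineHom.of_comp _ (AMonS S N).hom

theorem isSTD_map_whiskerRight (f : N →+ M) (hf : Function.Injective f) (T : Over S) :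
    IsSchemeTheoreticallyDominant (AMonS.map S f ▷ T).left := by
  have h₁ : IsPullback (fst (AMonS S N) T).left (snd (AMonS S N) T).left (AMonS S N).hom T.hom :=
    IsPullback.of_hasPullback _ _
  have : IsAffineHom (snd (AMonS S N) T).left := MorphismProperty.of_isPullback h₁ inferInstance
  have h₂ : IsPullback (fst (AMonS S M) T).left (snd (AMonS S M) T).left (AMonS S M).hom T.hom :=
    IsPullback.of_hasPullback _ _
  have hM : IsAffineHom (snd (AMonS S M) T).left := MorphismProperty.of_isPullback h₂ inferInstance
  have hc : IsAffineHom ((AMonS.map S f ▷ T).left ≫ (snd (AMonS S N) T).left) := by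
    rw [← Over.comp_left, whiskerRight_snd]
    exact hM
  have : IsAffineHom (AMonS.map S f ▷ T).left := IsAffineHom.of_comp _ (snd (AMonS S N) T).left
  refine isSTD_of_openCover _ (Precoverage.ZeroHypercover.pullback₁ (snd (AMonS S N) T).left T.left.affineCover)
    (fun i => ?_)
  let s : (T.left.affineCover.X i) ⟶ S := T.left.affineCover.f i ≫ T.hom
  let u : Over.mk s ⟶ T := Over.homMk (T.left.affineCover.f i) rfl
  let w : (AMonS S M ⊗ Over.mk s).left ⟶ pullback (snd (AMonS S N) T).left (T.left.affineCover.f i) :=
    pullback.lift ((AMonS.map S f ▷ Over.mk s) ≫ (AMonS S N ◁ u)).left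
      ((AMonS.map S f ▷ Over.mk s).left ≫ (snd (AMonS S N) (Over.mk s)).left) (by
        rw [← Over.comp_left, Category.assoc, whiskerLeft_snd, Over.comp_left, Over.comp_left, Category.assoc]
        rfl)
  let k : pullback (snd (AMonS S N) T).left (T.left.affineCover.f i) ⟶ (AMonS S N ⊗ Over.mk s).left :=
    pullback.lift (pullback.fst _ _ ≫ (fst (AMonS S N) T).left) (pullback.snd _ _) (by
      rw [Category.assoc, h₁.w, pullback.condition_assoc]
      rfl)
  have hk₁ : ((AMonS.map S f ▷ Over.mk s).left : _ ⟶ _) = w ≫ k := by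
    refine pullback.hom_ext ?_ ?_
    · change (AMonS.map S f ▷ Over.mk s).left ≫ (fst (AMonS S N) (Over.mk s)).left =
        (w ≫ k) ≫ (fst (AMonS S N) (Over.mk s)).left
      have hk' : k ≫ (fst (AMonS S N) (Over.mk s)).left = pullback.fst _ _ ≫ (fst (AMonS S N) T).left :=
        pullback.lift_fst _ _ _
      rw [Category.assoc, hk', pullback.lift_fst_assoc]
      simp only [← Over.comp_left, Category.assoc, whiskerLeft_fst]
    · change (AMonS.map S f ▷ Over.mk s).left ≫ (snd (AMonS S N) (Over.mk s)).left =
        (w ≫ k) ≫ (snd (AMonS S N) (Over.mk s)).left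
      have hk' : k ≫ (snd (AMonS S N) (Over.mk s)).left = pullback.snd _ _ := pullback.lift_snd _ _ _
      rw [Category.assoc, hk']
      exact (pullback.lift_snd _ _ _).symm
  have hkiso : IsIso k := by
    refine ⟨pullback.lift (AMonS S N ◁ u).left (snd (AMonS S N) (Over.mk s)).left ?_, ?_, ?_⟩
    · rw [← Over.comp_left, whiskerLeft_snd, Over.comp_left]; rfl
    · refine pullback.hom_ext ?_ ?_
      · rw [Category.assoc, pullback.lift_fst, Category.id_comp]
        refine pullback.hom_ext ?_ ?_
        · change (k ≫ _) ≫ (fst (AMonS S N) T).left = _ ≫ (fst (AMonS S N) T).left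
          rw [Category.assoc, ← Over.comp_left, whiskerLeft_fst]
          exact pullback.lift_fst _ _ _
        · change (k ≫ _) ≫ (snd (AMonS S N) T).left = _ ≫ (snd (AMonS S N) T).left
          rw [Category.assoc, ← Over.comp_left, whiskerLeft_snd, Over.comp_left, pullback.condition]
          exact congrArg (· ≫ T.left.affineCover.f i) (pullback.lift_snd _ _ _)
      · rw [Category.assoc, pullback.lift_snd, Category.id_comp]
        exact pullback.lift_snd _ _ _
    · refine pullback.hom_ext ?_ ?_
      · change (_ ≫ k) ≫ (fst (AMonS S N) (Over.mk s)).left = 𝟙 _ ≫ (fst (AMonS S N) (Over.mk s)).left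
        have hk' : k ≫ (fst (AMonS S N) (Over.mk s)).left = pullback.fst _ _ ≫ (fst (AMonS S N) T).left :=
          pullback.lift_fst _ _ _
        rw [Category.assoc, hk', pullback.lift_fst_assoc, Category.id_comp, ← Over.comp_left, whiskerLeft_fst]
      · change (_ ≫ k) ≫ (snd (AMonS S N) (Over.mk s)).left = 𝟙 _ ≫ (snd (AMonS S N) (Over.mk s)).left
        have hk' : k ≫ (snd (AMonS S N) (Over.mk s)).left = pullback.snd _ _ := pullback.lift_snd _ _ _
        rw [Category.assoc, hk', pullback.lift_snd, Category.id_comp]
  have := isSTD_map_whiskerRight_spec (S := S) f hf _ s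
  have hw : IsSchemeTheoreticallyDominant w := by
    have e : w = (AMonS.map S f ▷ Over.mk s).left ≫ inv k := by rw [hk₁, Category.assoc, IsIso.hom_inv_id, Category.comp_id]
    rw [e]
    infer_instance
  refine ⟨_, w, (AMonS S M ◁ u).left, hw, ?_⟩
  rw [← Over.comp_left, whisker_exchange]
  exact (pullback.lift_fst _ _ _).symm

end GrothLib.MagnetSep
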